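import Groth.Agent.Lib.ProjDim.Basic
import Groth.Agent.Lib.HilbSam.Asymp
import Mathlib.RingTheory.MvPolynomial.Ideal
import Mathlib.LinearAlgebra.Dimension.DivisionRing

/-!
# Hilbert functions of homogeneous ideals and Hilbert–Samuel functions at the vertex of the cone
-/

set_option linter.all false
set_option backward.isDefEq.respectTransparency false

universe u

open MvPolynomial

namespace GrothLib.GrHilb10

variable {k : Type u} [Field k] {n : ℕ}

local notation "S" => MvPolynomial (Fin (n + 1)) k

theorem polyGrading_le (t : ℕ) : CohB1.polyGrading n k t ≤ MvPolynomial.restrictTotalDegree (Fin (n + 1)) k t :=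
  fun a ha => (mem_restrictTotalDegree _ _ a).2 ha.totalDegree_le

instance finite_degree (t : ℕ) : Module.Finite k ↥(CohB1.polyGrading n k t) :=
  Module.Finite.of_injective (Submodule.inclusion (polyGrading_le (n := n) (k := k) t))
    (Submodule.inclusion_injective _)

/-- The Hilbert function of `S/J`. -/
noncomputable def hf (J : Ideal S) (t : ℕ) : ℕ :=
  Module.finrank k ↥(CohB1.polyGrading n k t) -
    Module.finrank k ↥(Submodule.restrictScalars k J ⊓ CohB1.polyGrading n k t)

theorem finrank_inf_le (J : Ideal S) (t : ℕ) :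
    Module.finrank k ↥(Submodule.restrictScalars k J ⊓ CohB1.polyGrading n k t) ≤
      Module.finrank k ↥(CohB1.polyGrading n k t) :=
  Submodule.finrank_mono inf_le_right

theorem hf_cast (J : Ideal S) (t : ℕ) :
    (hf J t : ℚ) = (Module.finrank k ↥(CohB1.polyGrading n k t) : ℚ) -
      Module.finrank k ↥(Submodule.restrictScalars k J ⊓ CohB1.polyGrading n k t) := by
  rw [hf, Nat.cast_sub (finrank_inf_le J t)]

theorem hf_anti {J J' : Ideal S} (h : J ≤ J') (t : ℕ) : hf J' t ≤ hf J t := by
  haveI : FiniteDimensional k ↥(Submodule.restrictScalars k J' ⊓ CohB1.polyGrading n k t) :=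
    Submodule.finiteDimensional_of_le inf_le_right
  have := Submodule.finrank_mono (R := k) (s := Submodule.restrictScalars k J ⊓ CohB1.polyGrading n k t)
    (inf_le_inf_right (CohB1.polyGrading n k t) (show Submodule.restrictScalars k J ≤ Submodule.restrictScalars k J' from h))
  unfold hf
  omega

/-- The exact sequence of a hypersurface section. -/
theorem hf_sup_span {p : Ideal S} [p.IsPrime] (hp : p.IsHomogeneous (CohB1.polyGrading n k)) {f : S} {d : ℕ}
    (hf' : f.IsHomogeneous d) (hfp : f ∉ p) (t : ℕ) :
    (hf (p ⊔ Ideal.span {f}) (t + d) : ℚ) = hf p (t + d) - hf p t := by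
  classical
  have hf0 : f ≠ 0 := fun h => hfp (h ▸ zero_mem p)
  let μ : S →ₗ[k] S := LinearMap.mulLeft k f
  have hμ : Function.Injective μ := fun a b h => mul_left_cancel₀ hf0 h
  have e1 : Submodule.restrictScalars k (p ⊔ Ideal.span {f}) ⊓ CohB1.polyGrading n k (t + d) =
      (Submodule.restrictScalars k p ⊓ CohB1.polyGrading n k (t + d)) ⊔
        (CohB1.polyGrading n k t).map μ := by
    refine le_antisymm ?_ (sup_le (inf_le_inf_right _ (fun a ha => Ideal.mem_sup_left ha)) ?_)
    · rintro a ⟨ha, hd⟩
      rw [SetLike.mem_coe, Submodule.restrictScalars_mem, Submodule.mem_sup] at ha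
      obtain ⟨u, hu, v, hv, rfl⟩ := ha
      obtain ⟨c, rfl⟩ := Ideal.mem_span_singleton'.1 hv
      have hd' : u + c * f ∈ CohB1.polyGrading n k (t + d) := hd
      have h2 : homogeneousComponent (t + d) (c * f) = f * homogeneousComponent t c := by
        conv_lhs => rw [← sum_homogeneousComponent c, Finset.sum_mul, map_sum]
        have hterm : ∀ i, homogeneousComponent (t + d) (homogeneousComponent i c * f) =
            if i = t then f * homogeneousComponent t c else 0 := fun i => by
          rw [homogeneousComponent_of_mem ((homogeneousComponent_isHomogeneous i c).mul hf')]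
          by_cases hi : i = t
          · subst hi; simp [mul_comm]
          · rw [if_neg (by omega), if_neg hi]
        rw [Finset.sum_congr rfl (fun i _ => hterm i), Finset.sum_ite_eq']
        split_ifs with hi
        · rfl
        · rw [homogeneousComponent_eq_zero _ _ (by simpa using hi), mul_zero]
      rw [← homogeneousComponent_eq_self hd', map_add, h2]
      refine Submodule.add_mem_sup ⟨homogeneousComponent_mem_of_mem hp hu _, homogeneousComponent_isHomogeneous _ _⟩
        ⟨_, homogeneousComponent_isHomogeneous _ _, rfl⟩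
    · rintro _ ⟨b, hb, rfl⟩
      refine ⟨Ideal.mem_sup_right (Ideal.mem_span_singleton'.2 ⟨b, mul_comm _ _⟩), ?_⟩
      show f * b ∈ CohB1.polyGrading n k (t + d)
      rw [Nat.add_comm t d]
      exact hf'.mul hb
  have e2 : (Submodule.restrictScalars k p ⊓ CohB1.polyGrading n k (t + d)) ⊓ (CohB1.polyGrading n k t).map μ =
      (Submodule.restrictScalars k p ⊓ CohB1.polyGrading n k t).map μ := by
    refine le_antisymm ?_ ?_
    · rintro _ ⟨⟨ha, -⟩, b, hb, rfl⟩
      exact ⟨b, ⟨(Ideal.IsPrime.mem_or_mem ‹p.IsPrime› ha).resolve_left hfp, hb⟩, rfl⟩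
    · rintro _ ⟨b, ⟨hbp, hb⟩, rfl⟩
      refine ⟨⟨p.mul_mem_left f hbp, ?_⟩, b, hb, rfl⟩
      show f * b ∈ CohB1.polyGrading n k (t + d)
      rw [Nat.add_comm t d]
      exact hf'.mul hb
  haveI : FiniteDimensional k ↥(Submodule.restrictScalars k p ⊓ CohB1.polyGrading n k (t + d)) :=
    Submodule.finiteDimensional_of_le inf_le_right
  haveI : FiniteDimensional k ↥((CohB1.polyGrading n k t).map μ) := inferInstance
  have h := Submodule.finrank_sup_add_finrank_inf_eq (Submodule.restrictScalars k p ⊓ CohB1.polyGrading n k (t + d))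
    ((CohB1.polyGrading n k t).map μ)
  rw [← e1, e2, ← (Submodule.equivMapOfInjective μ hμ _).finrank_eq,
    ← (Submodule.equivMapOfInjective μ hμ _).finrank_eq] at h
  rw [hf_cast, hf_cast, hf_cast]
  have h' := congrArg (Nat.cast (R := ℚ)) h
  push_cast at h'
  linarith

/-! ## The Hilbert–Samuel function at the vertex -/

theorem mem_idealOfVars_iff (a : S) : a ∈ idealOfVars (Fin (n + 1)) k ↔ constantCoeff a = 0 := by
  rw [← pow_one (idealOfVars (Fin (n + 1)) k), mem_pow_idealOfVars_iff']
  constructor
  · exact fun h => h 0 (by simp)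
  · intro h x hx
    rw [Nat.lt_one_iff, Finsupp.degree_eq_zero_iff] at hx
    subst hx
    exact h

theorem idealOfVars_eq : idealOfVars (Fin (n + 1)) k = ProjDim.mIdeal k n :=
  Ideal.ext fun a => mem_idealOfVars_iff a

theorem isMaximal_of_le (p : PrimeSpectrum S) (h : idealOfVars (Fin (n + 1)) k ≤ p.asIdeal) :
    p.asIdeal.IsMaximal := by
  have hm : (ProjDim.mIdeal k n).IsMaximal := inferInstance
  rw [idealOfVars_eq] at h
  rwa [← hm.eq_of_le p.2.ne_top h]

theorem isDefining (M : Type u) [AddCommGroup M] [Module S M] :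
    HilbSam.IsDefining (idealOfVars (Fin (n + 1)) k) M :=
  HilbSam.IsDefining.of_forall isMaximal_of_le M

theorem finrank_quotient_of_surjective {R : Type u} [CommRing R] [Algebra k R] {t : ℕ} (W : Fin t → Type u)
    [∀ i, AddCommGroup (W i)] [∀ i, Module k (W i)] [∀ i, Module.Finite k (W i)]
    (K : Ideal R) (Φ : R →ₗ[k] ∀ i, W i) (hs : Function.Surjective Φ)
    (hker : LinearMap.ker Φ = Submodule.restrictScalars k K) :
    Module.Finite k (R ⧸ K) ∧ Module.finrank k (R ⧸ K) = ∑ i, Module.finrank k (W i) := by
  let q : R →ₗ[k] R ⧸ K := (Ideal.Quotient.mkₐ k K).toLinearMap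
  have hq : LinearMap.ker q = LinearMap.ker Φ := by
    rw [hker]
    ext a
    exact Ideal.Quotient.eq_zero_iff_mem
  let e : (R ⧸ K) ≃ₗ[k] ∀ i, W i :=
    ((LinearMap.quotKerEquivOfSurjective q Ideal.Quotient.mk_surjective).symm.trans
      (Submodule.quotEquivOfEq _ _ hq)).trans (LinearMap.quotKerEquivOfSurjective Φ hs)
  exact ⟨Module.Finite.equiv e.symm, e.finrank_eq.trans (Module.finrank_pi_fintype k)⟩

/-- The degree `i` piece of `S/J`. -/
abbrev piece (J : Ideal S) (i : ℕ) : Type u :=
  ↥(CohB1.polyGrading n k i) ⧸ (Submodule.restrictScalars k J).comap (CohB1.polyGrading n k i).subtype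

theorem finrank_piece (J : Ideal S) (i : ℕ) : Module.finrank k (piece J i) = hf J i := by
  rw [Submodule.finrank_quotient, hf]
  congr 1
  rw [(Submodule.equivMapOfInjective (CohB1.polyGrading n k i).subtype (Submodule.injective_subtype _) _).finrank_eq,
    Submodule.map_comap_subtype, inf_comm]

/-- The components below degree `t`, modulo `J`. -/
noncomputable def comps (J : Ideal S) (t : ℕ) : S →ₗ[k] (∀ i : Fin t, piece J i.1) :=
  LinearMap.pi fun i => (Submodule.mkQ _).comp
    ((homogeneousComponent i.1).codRestrict (CohB1.polyGrading n k i.1) fun a => homogeneousComponent_isHomogeneous _ a)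

theorem comps_apply (J : Ideal S) (t : ℕ) (a : S) (i : Fin t) : comps J t a i = Submodule.Quotient.mk
    (⟨homogeneousComponent i.1 a, homogeneousComponent_isHomogeneous _ a⟩ : ↥(CohB1.polyGrading n k i.1)) := rfl

theorem mem_pow_iff (t : ℕ) (a : S) :
    a ∈ idealOfVars (Fin (n + 1)) k ^ t ↔ ∀ i < t, homogeneousComponent i a = 0 := by
  classical
  rw [mem_pow_idealOfVars_iff']
  constructor
  · intro h i hi
    refine MvPolynomial.ext _ _ fun x => ?_
    rw [coeff_homogeneousComponent, coeff_zero]
    split_ifs with hx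
    · exact h x (hx ▸ hi)
    · rfl
  · intro h x hx
    have := congrArg (coeff x) (h _ hx)
    rwa [coeff_homogeneousComponent, if_pos rfl, coeff_zero] at this

theorem ker_comps (J : Ideal S) (hJ : J.IsHomogeneous (CohB1.polyGrading n k)) (t : ℕ) :
    LinearMap.ker (comps J t) = Submodule.restrictScalars k (J ⊔ idealOfVars (Fin (n + 1)) k ^ t) := by
  ext a
  rw [LinearMap.mem_ker, Submodule.restrictScalars_mem]
  have hzero : comps J t a = 0 ↔ ∀ i < t, homogeneousComponent i a ∈ J := by
    rw [funext_iff]
    simp only [comps_apply, Pi.zero_apply, Submodule.Quotient.mk_eq_zero]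
    exact ⟨fun h i hi => h ⟨i, hi⟩, fun h i => h i.1 i.2⟩
  rw [hzero]
  constructor
  · intro h
    rw [Submodule.mem_sup]
    refine ⟨∑ i ∈ Finset.range t, homogeneousComponent i a,
      sum_mem fun i hi => h i (Finset.mem_range.1 hi), a - _, ?_, add_sub_cancel _ _⟩
    rw [mem_pow_iff]
    intro i hi
    rw [map_sub, map_sum, Finset.sum_eq_single i, homogeneousComponent_eq_self (homogeneousComponent_isHomogeneous _ _),
      sub_self]
    · intro j _ hji
      rw [homogeneousComponent_of_mem (homogeneousComponent_isHomogeneous j a), if_neg (Ne.symm hji)]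
    · intro hni
      exact absurd (Finset.mem_range.2 hi) hni
  · intro h i hi
    obtain ⟨u, hu, v, hv, rfl⟩ := Submodule.mem_sup.1 h
    rw [map_add, (mem_pow_iff t v).1 hv i hi, add_zero]
    exact homogeneousComponent_mem_of_mem hJ hu i

theorem comps_surjective (J : Ideal S) (t : ℕ) : Function.Surjective (comps J t) := by
  intro w
  choose v hv using fun i => Submodule.Quotient.mk_surjective _ (w i)
  refine ⟨∑ i, (v i : S), funext fun i => ?_⟩
  rw [comps_apply, ← hv i]
  congr 1
  refine Subtype.ext ?_
  show homogeneousComponent i.1 (∑ j, (v j : S)) = _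
  rw [map_sum, Finset.sum_eq_single i, homogeneousComponent_eq_self (v i).2]
  · intro j _ hji
    rw [homogeneousComponent_of_mem (v j).2, if_neg fun e => hji (Fin.ext e.symm)]
  · simp

set_option synthInstance.maxHeartbeats 400000 in
theorem finrank_quotient (J : Ideal S) (hJ : J.IsHomogeneous (CohB1.polyGrading n k)) (t : ℕ) :
    Module.Finite k (S ⧸ (J ⊔ idealOfVars (Fin (n + 1)) k ^ t)) ∧
      Module.finrank k (S ⧸ (J ⊔ idealOfVars (Fin (n + 1)) k ^ t)) = ∑ i ∈ Finset.range t, hf J i := by
  obtain ⟨h1, h2⟩ := finrank_quotient_of_surjective (k := k) (R := MvPolynomial (Fin (n + 1)) k)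
    (fun i : Fin t => piece J i.1) (J ⊔ idealOfVars (Fin (n + 1)) k ^ t) (comps J t) (comps_surjective J t)
    (ker_comps J hJ t)
  refine ⟨h1, ?_⟩
  rw [h2, Finset.sum_range]
  exact Finset.sum_congr rfl fun i _ => finrank_piece J i.1

/-- A finite-dimensional module killed by a power of the irrelevant ideal has length its dimension. -/
theorem length_eq_finrank_of_smul_eq_bot (t : ℕ) :
    ∀ (N : Type u) [AddCommGroup N] [Module S N] [Module k N] [IsScalarTower k S N] [Module.Finite k N],
      idealOfVars (Fin (n + 1)) k ^ t • (⊤ : Submodule S N) = ⊥ →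
        Module.length S N = Module.finrank k N := by
  induction t with
  | zero =>
    intro N _ _ _ _ _ h
    rw [pow_zero, Ideal.one_eq_top, Submodule.top_smul] at h
    haveI : Subsingleton N := (Submodule.subsingleton_iff S).1 (subsingleton_of_bot_eq_top h.symm)
    simp [Module.length_eq_zero, Module.finrank_zero_of_subsingleton]
  | succ t ih =>
    intro N _ _ _ _ _ h
    let m := idealOfVars (Fin (n + 1)) k
    let N' : Submodule S N := m • ⊤
    have h' : m ^ t • (⊤ : Submodule S N') = ⊥ := by
      refine Submodule.map_injective_of_injective N'.injective_subtype ?_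
      rw [Submodule.map_smul'', Submodule.map_top, Submodule.range_subtype, Submodule.map_bot]
      show m ^ t • (m • ⊤ : Submodule S N) = ⊥
      rw [← Submodule.mul_smul, ← pow_succ]
      exact h
    haveI : Module.Finite k N' := Module.Finite.of_injective (N'.subtype.restrictScalars k) N'.injective_subtype
    have hq : Module.length S (N ⧸ N') = Module.finrank k (N ⧸ N') := by
      haveI : Module.Finite k (N ⧸ N') := Module.Finite.of_surjective (N'.mkQ.restrictScalars k) N'.mkQ_surjective
      rw [← Module.length_eq_finrank]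
      let ε : S →+* k := constantCoeff
      letI : Algebra S k := ε.toAlgebra
      haveI : IsScalarTower S k (N ⧸ N') := ⟨fun a c v => by
        show (ε a * c) • v = a • (c • v)
        obtain ⟨w, rfl⟩ := N'.mkQ_surjective v
        have hmem : a - C (ε a) ∈ m := by rw [mem_idealOfVars_iff]; simp [ε]
        have h0 : (a - C (ε a)) • N'.mkQ (c • w) = 0 := by
          rw [← map_smul, Submodule.mkQ_apply, Submodule.Quotient.mk_eq_zero]
          exact Submodule.smul_mem_smul hmem trivial
        rw [sub_smul, sub_eq_zero] at h0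
        rw [mul_smul, ← LinearMap.map_smul_of_tower N'.mkQ c w, h0, show (C (ε a) : S) = algebraMap k S (ε a) from rfl,
          algebraMap_smul]⟩
      exact Module.length_eq_of_surjective (fun c => ⟨C c, constantCoeff_C _ c⟩)
    rw [Module.length_eq_add_of_exact N'.subtype N'.mkQ N'.injective_subtype N'.mkQ_surjective
      (LinearMap.exact_subtype_mkQ N'), ih N' h', hq,
      ← Submodule.finrank_quotient_add_finrank (N'.restrictScalars k),
      (Submodule.Quotient.restrictScalarsEquiv k N').finrank_eq]
    push_cast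
    rw [add_comm]
    rfl

/-- The Hilbert–Samuel function of a graded quotient sums the Hilbert function. -/
theorem samuel_eq_sum (J : Ideal S) (hJ : J.IsHomogeneous (CohB1.polyGrading n k)) (t : ℕ) :
    HilbSam.samuel (idealOfVars (Fin (n + 1)) k) (S ⧸ J) t = ∑ i ∈ Finset.range t, (hf J i : ℤ) := by
  let m := idealOfVars (Fin (n + 1)) k
  obtain ⟨hfin, hdim⟩ := finrank_quotient J hJ t
  have e1 : (m ^ t • ⊤ : Submodule S (S ⧸ J)) = Submodule.map (Submodule.mkQ J) (m ^ t) := by
    rw [show (⊤ : Submodule S (S ⧸ J)) = (⊤ : Submodule S S).map (Submodule.mkQ J) from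
      (by rw [Submodule.map_top, Submodule.range_mkQ]), ← Submodule.map_smul'', smul_eq_mul, Ideal.mul_top]
  have hl : Module.length S ((S ⧸ J) ⧸ (m ^ t • ⊤ : Submodule S (S ⧸ J))) =
      Module.length S (S ⧸ (J ⊔ m ^ t)) := by
    refine LinearEquiv.length_eq ((Submodule.quotEquivOfEq _ _ ?_) ≪≫ₗ Submodule.quotientQuotientEquivQuotient J (J ⊔ m ^ t) le_sup_left)
    rw [e1, Submodule.map_sup, Submodule.mkQ_map_self, bot_sup_eq]
  unfold HilbSam.samuel HilbSam.len
  rw [hl, length_eq_finrank_of_smul_eq_bot t (S ⧸ (J ⊔ m ^ t)) ?_, hdim]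
  · rw [ENat.toNat_natCast]
    push_cast
    rfl
  · rw [show (⊤ : Submodule S (S ⧸ (J ⊔ m ^ t))) = (⊤ : Submodule S S).map (Submodule.mkQ _) from
      (by rw [Submodule.map_top, Submodule.range_mkQ]), ← Submodule.map_smul'', smul_eq_mul, Ideal.mul_top,
      ← le_bot_iff, Submodule.map_le_iff_le_comap, Submodule.comap_bot, Submodule.ker_mkQ]
    exact le_sup_right

end GrothLib.GrHilb10
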