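import Groth.Agent.Lib.GrHilb10.Basic
import Groth.Agent.Lib.HilbSam.Assoc
import Mathlib.Algebra.Polynomial.Taylor
import Mathlib.RingTheory.GradedAlgebra.Homogeneous.Ideal

/-!
# Degree and leading coefficient of Hilbert polynomials
-/

set_option linter.all false
set_option backward.isDefEq.respectTransparency false

universe u

open Filter Polynomial

namespace GrothLib.GrHilb10

section Poly

theorem shift_sub (Q : ℚ[X]) (c : ℚ) {D : ℕ} (hQ : Q.natDegree ≤ D + 1) :
    (Q.comp (X + C c) - Q).natDegree ≤ D ∧ (Q.comp (X + C c) - Q).coeff D = c * (D + 1) * Q.coeff (D + 1) := by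
  constructor
  · have hc : (Q.comp (X + C c)).natDegree = Q.natDegree := by rw [← taylor_apply, natDegree_taylor]
    refine natDegree_le_iff_coeff_eq_zero.2 fun N hN => ?_
    rw [coeff_sub]
    by_cases h : N = D + 1
    · subst h
      by_cases hd : Q.natDegree = D + 1
      · rw [← taylor_apply, ← hd, coeff_taylor_natDegree, Polynomial.leadingCoeff, sub_self]
      · rw [coeff_eq_zero_of_natDegree_lt (p := Q.comp (X + C c)) (by omega),
          coeff_eq_zero_of_natDegree_lt (p := Q) (by omega), sub_self]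
    · rw [coeff_eq_zero_of_natDegree_lt (p := Q.comp (X + C c)) (by omega),
        coeff_eq_zero_of_natDegree_lt (p := Q) (by omega), sub_self]
  · rw [coeff_sub, ← taylor_apply, taylor_coeff]
    have h1 : (hasseDeriv D Q).natDegree < 2 := by
      have := natDegree_hasseDeriv_le Q D
      omega
    rw [eval_eq_sum_range' h1]
    simp only [Finset.sum_range_succ, Finset.sum_range_zero, hasseDeriv_coeff, zero_add, pow_zero, pow_one,
      mul_one, Nat.choose_self, Nat.cast_one, one_mul]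
    rw [show 1 + D = D + 1 from Nat.add_comm 1 D, Nat.choose_succ_self_right]
    push_cast
    ring

theorem eq_of_eventually_eq {P Q : ℚ[X]} (h : ∀ᶠ t : ℕ in atTop, P.eval (t : ℚ) = Q.eval (t : ℚ)) : P = Q := by
  obtain ⟨N, hN⟩ := eventually_atTop.1 h
  refine eq_of_infinite_eval_eq P Q (Set.Infinite.mono ?_ ((Set.Ici_infinite N).image Nat.cast_injective.injOn))
  rintro _ ⟨t, ht, rfl⟩
  exact hN t ht

end Poly

variable {k : Type u} [Field k] {n : ℕ}

local notation "S" => MvPolynomial (Fin (n + 1)) k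
local notation "m" => MvPolynomial.idealOfVars (Fin (n + 1)) k

/-- `P` is a Hilbert polynomial of `S/J`. -/
def IsHP (J : Ideal S) (P : ℚ[X]) : Prop := ∀ᶠ t : ℕ in atTop, P.eval (t : ℚ) = hf J t

theorem isHP_iff (J : Ideal S) (P : ℚ[X]) :
    IsHP J P ↔ ∃ m₀ : ℕ, ∀ t : ℕ, m₀ ≤ t → P.eval (t : ℚ) =
      (Module.finrank k ↥(CohB1.polyGrading n k t) : ℚ) -
        Module.finrank k ↥(Submodule.restrictScalars k J ⊓ CohB1.polyGrading n k t) := by
  simp only [IsHP, eventually_atTop, ← hf_cast]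

theorem IsHP.unique {J : Ideal S} {P Q : ℚ[X]} (h : IsHP J P) (h' : IsHP J Q) : P = Q :=
  eq_of_eventually_eq (h.and h' |>.mono fun t ht => ht.1.trans ht.2.symm)

theorem exists_samuel_poly (J : Ideal S) :
    ∃ Q : ℚ[X], ∀ᶠ t : ℕ in atTop, (HilbSam.samuel m (S ⧸ J) t : ℚ) = Q.eval (t : ℚ) :=
  HilbSam.exists_polynomial m (S ⧸ J) (isDefining (S ⧸ J)).isFiniteLength

/-- The Hilbert polynomial is the difference of the Hilbert–Samuel polynomial. -/
theorem isHP_shift {J : Ideal S} (hJ : J.IsHomogeneous (CohB1.polyGrading n k)) {Q : ℚ[X]}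
    (hQ : ∀ᶠ t : ℕ in atTop, (HilbSam.samuel m (S ⧸ J) t : ℚ) = Q.eval (t : ℚ)) :
    IsHP J (Q.comp (X + C 1) - Q) := by
  filter_upwards [hQ, (tendsto_add_atTop_nat 1).eventually hQ] with t h1 h2
  rw [samuel_eq_sum J hJ, Finset.sum_range_succ] at h2
  rw [samuel_eq_sum J hJ] at h1
  push_cast at h1 h2
  rw [eval_sub, eval_comp, eval_add, eval_X, eval_C, ← h2, ← h1]
  ring

theorem exists_isHP (J : Ideal S) (hJ : J.IsHomogeneous (CohB1.polyGrading n k)) : ∃ P, IsHP J P :=
  let ⟨_, hQ⟩ := exists_samuel_poly J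
  ⟨_, isHP_shift hJ hQ⟩

/-- The upper bound for the degree, and the top coefficient of the Hilbert–Samuel function. -/
theorem le_of_dim_le {J : Ideal S} (hJ : J.IsHomogeneous (CohB1.polyGrading n k)) {D : ℕ}
    (hd : ringKrullDim (S ⧸ J) ≤ (D + 1 : ℕ)) {P : ℚ[X]} (hP : IsHP J P) :
    P.natDegree ≤ D ∧
      Tendsto (fun t : ℕ => (HilbSam.samuel m (S ⧸ J) t : ℝ) / (t : ℝ) ^ (D + 1)) atTop
        (nhds ((P.coeff D : ℝ) / (D + 1))) := by
  have hs : Module.supportDim S (S ⧸ J) ≤ (D + 1 : ℕ) := by rwa [Module.supportDim_quotient_eq_ringKrullDim]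
  obtain ⟨Q, hQd, hQ⟩ := HilbSam.exists_polynomial_le (isDefining (S ⧸ J)) hs
  obtain rfl := hP.unique (isHP_shift hJ hQ)
  obtain ⟨h1, h2⟩ := shift_sub Q 1 hQd
  refine ⟨h1, ?_⟩
  have h3 := HilbSam.tendsto_samuel_of_eval hQd hQ
  rw [h2]
  convert h3 using 2
  push_cast
  have : ((D : ℝ) + 1) ≠ 0 := by positivity
  field_simp

theorem eq_zero_of_dim_le_zero {J : Ideal S} (hJ : J.IsHomogeneous (CohB1.polyGrading n k))
    (hd : ringKrullDim (S ⧸ J) ≤ (0 : ℕ)) {P : ℚ[X]} (hP : IsHP J P) : P = 0 := by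
  have hs : Module.supportDim S (S ⧸ J) ≤ (0 : ℕ) := by rwa [Module.supportDim_quotient_eq_ringKrullDim]
  obtain ⟨Q, hQd, hQ⟩ := HilbSam.exists_polynomial_le (isDefining (S ⧸ J)) hs
  obtain rfl := hP.unique (isHP_shift hJ hQ)
  rw [eq_C_of_natDegree_eq_zero (Nat.le_zero.1 hQd)]
  simp

theorem isHomogeneous_sup_span {p : Ideal S} (hp : p.IsHomogeneous (CohB1.polyGrading n k)) {f : S} {d : ℕ}
    (hf' : f.IsHomogeneous d) : (p ⊔ Ideal.span {f}).IsHomogeneous (CohB1.polyGrading n k) :=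
  Ideal.IsHomogeneous.sup hp (Ideal.homogeneous_span _ _ fun a ha => ⟨d, by
    rw [Set.mem_singleton_iff.1 ha]; exact hf'⟩)

/-- The Hilbert polynomial of a hypersurface section. -/
theorem isHP_sup_span {p : Ideal S} [p.IsPrime] (hp : p.IsHomogeneous (CohB1.polyGrading n k)) {f : S} {d : ℕ}
    (hf' : f.IsHomogeneous d) (hfp : f ∉ p) {P : ℚ[X]} (hP : IsHP p P) :
    IsHP (p ⊔ Ideal.span {f}) (P - P.comp (X + C (-(d : ℚ)))) := by
  obtain ⟨N, hN⟩ := eventually_atTop.1 hP
  refine eventually_atTop.2 ⟨N + d, fun t ht => ?_⟩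
  obtain ⟨t', rfl⟩ : ∃ t', t = t' + d := ⟨t - d, by omega⟩
  rw [eval_sub, eval_comp, eval_add, eval_X, eval_C, hf_sup_span hp hf' hfp, hN (t' + d) (by omega),
    show ((t' + d : ℕ) : ℚ) + -(d : ℚ) = (t' : ℚ) by push_cast; ring, hN t' (by omega)]

theorem exists_X_notMem {p : Ideal S} [p.IsPrime] {D : ℕ} (hd : ringKrullDim (S ⧸ p) = (D + 1 : ℕ)) :
    ∃ i, (MvPolynomial.X i : S) ∉ p := by
  by_contra h
  push Not at h
  have hle : m ≤ p := Ideal.span_le.2 (by rintro _ ⟨i, rfl⟩; exact h i)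
  haveI := isMaximal_of_le ⟨p, ‹_›⟩ hle
  have h0 : ringKrullDim (S ⧸ p) = 0 := ringKrullDim_eq_zero_of_isField
    ((Ideal.Quotient.maximal_ideal_iff_isField_quotient p).1 this)
  rw [h0] at hd
  have : (0 : ℕ) = D + 1 := by exact_mod_cast hd
  omega

theorem ne_top_sup_span {p : Ideal S} [p.IsPrime] (hp : p.IsHomogeneous (CohB1.polyGrading n k)) {f : S} {d : ℕ}
    (hd0 : 0 < d) (hf' : f.IsHomogeneous d) : p ⊔ Ideal.span {f} ≠ ⊤ := by
  intro h
  have hle : p ⊔ Ideal.span {f} ≤ ProjDim.mIdeal k n := sup_le (ProjDim.le_mIdeal hp Ideal.IsPrime.ne_top')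
    (Ideal.span_le.2 (Set.singleton_subset_iff.2 (by
      rw [SetLike.mem_coe, ProjDim.mem_mIdeal, MvPolynomial.constantCoeff_eq]
      exact hf'.coeff_eq_zero (by simp; omega))))
  exact (inferInstance : (ProjDim.mIdeal k n).IsMaximal).ne_top (top_unique (h ▸ hle))

/-- The Hilbert polynomial of a homogeneous prime has degree one less than the dimension of the cone. -/
theorem natDegree_prime : ∀ (D : ℕ) (p : Ideal S) [p.IsPrime], p.IsHomogeneous (CohB1.polyGrading n k) →
    ringKrullDim (S ⧸ p) = (D + 1 : ℕ) → ∀ P, IsHP p P → P ≠ 0 ∧ P.natDegree = D := by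
  intro D
  induction D with
  | zero =>
    intro p _ hp hd P hP
    refine ⟨fun h0 => ?_, Nat.le_zero.1 (le_of_dim_le hp hd.le hP).1⟩
    subst h0
    obtain ⟨i, hi⟩ := exists_X_notMem hd
    obtain ⟨N, hN⟩ := eventually_atTop.1 hP
    have h1 := hN N le_rfl
    have hlt : Submodule.restrictScalars k p ⊓ CohB1.polyGrading n k N < CohB1.polyGrading n k N := by
      refine lt_of_le_of_ne inf_le_right fun e => hi ?_
      have : (MvPolynomial.X i : S) ^ N ∈ CohB1.polyGrading n k N := MvPolynomial.isHomogeneous_X_pow i N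
      rw [← e] at this
      exact Ideal.IsPrime.mem_of_pow_mem ‹_› N this.1
    have h2 := Submodule.finrank_lt_finrank_of_lt hlt
    have h3 : 0 < hf p N := by unfold hf; omega
    rw [eval_zero] at h1
    exact absurd (by exact_mod_cast h1.symm) h3.ne'
  | succ D ih =>
    intro p _ hp hd P hP
    obtain ⟨i, hi⟩ := exists_X_notMem hd
    have hX : (MvPolynomial.X i : S).IsHomogeneous 1 := MvPolynomial.isHomogeneous_X k i
    obtain ⟨q, hq⟩ := Ideal.nonempty_minimalPrimes (ne_top_sup_span hp one_pos hX)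
    haveI := hq.1.1
    have hqd : ringKrullDim (S ⧸ q) = (D + 1 : ℕ) := by
      refine ProjDim.eq_of_add_one_eq ?_
      rw [ProjDim.dim_add_one_eq hi hq, hd]
      push_cast
      ring
    have hqh := ProjDim.isHomogeneous_minimalPrimes (isHomogeneous_sup_span hp hX) hq
    obtain ⟨Q, hQ⟩ := exists_isHP q hqh
    obtain ⟨hQ0, hQd⟩ := ih q hqh hqd Q hQ
    have hsec := isHP_sup_span hp hX hi hP
    have hle : ∀ᶠ t : ℕ in atTop,
        0 ≤ Q.eval (t : ℚ) ∧ Q.eval (t : ℚ) ≤ (P - P.comp (X + C (-((1 : ℕ) : ℚ)))).eval (t : ℚ) := by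
      filter_upwards [hQ, hsec] with t h1 h2
      rw [h1, h2]
      exact ⟨Nat.cast_nonneg _, Nat.cast_le.2 (hf_anti hq.1.2 t)⟩
    have hu := (le_of_dim_le hp hd.le hP).1
    have hdeg : P.natDegree = D + 1 := by
      by_contra hne
      have hPD : P.natDegree ≤ D := by omega
      rcases Nat.eq_zero_or_pos D with rfl | hD
      · have hc := eq_C_of_natDegree_eq_zero (Nat.le_zero.1 hPD)
        refine hQ0 (eq_of_eventually_eq (hle.mono fun t ht => ?_))
        have hz : (P - P.comp (X + C (-((1 : ℕ) : ℚ)))).eval (t : ℚ) = 0 := by rw [hc]; simp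
        rw [hz] at ht
        rw [eval_zero]
        exact le_antisymm ht.2 ht.1
      · obtain ⟨D, rfl⟩ : ∃ e, D = e + 1 := ⟨D - 1, by omega⟩
        have h1 := HilbSam.natDegree_le_of_le hle
        have h2 := (shift_sub P (-((1 : ℕ) : ℚ)) hPD).1
        rw [← neg_sub (P.comp _) P, natDegree_neg] at h1
        omega
    exact ⟨fun h0 => by rw [h0, natDegree_zero] at hdeg; omega, hdeg⟩

theorem exists_minimal_dim {J : Ideal S} {d : ℕ} (hd : ringKrullDim (S ⧸ J) = d) :
    ∃ p ∈ J.minimalPrimes, ringKrullDim (S ⧸ p) = d := by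
  obtain ⟨l, hl⟩ := Order.le_krullDim_iff.mp hd.ge
  obtain ⟨Q, hQ, hQl⟩ := Ideal.exists_minimalPrimes_le (I := J) (J := l.head.asIdeal.comap (Ideal.Quotient.mk J))
    (fun a ha => by rw [Ideal.mem_comap, Ideal.Quotient.eq_zero_iff_mem.2 ha]; exact zero_mem _)
  haveI := hQ.1.1
  refine ⟨Q, hQ, le_antisymm ?_ ?_⟩
  · rw [← hd]
    exact ringKrullDim_le_of_surjective _ (Ideal.Quotient.factor_surjective hQ.1.2)
  · have hle : ∀ i, Q ≤ (l i).asIdeal.comap (Ideal.Quotient.mk J) := fun i =>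
      hQl.trans (Ideal.comap_mono (show l.head ≤ l i from l.monotone (Fin.zero_le _)))
    let l' : LTSeries (PrimeSpectrum (S ⧸ Q)) := LTSeries.mk l.length
      (fun i => ⟨((l i).asIdeal.comap (Ideal.Quotient.mk J)).map (Ideal.Quotient.mk Q),
        Ideal.map_isPrime_of_surjective Ideal.Quotient.mk_surjective (by rw [Ideal.mk_ker]; exact hle i)⟩)
      fun i j hij => by
        refine lt_of_le_not_ge (Ideal.map_mono (Ideal.comap_mono (l.monotone hij.le : l i ≤ l j))) fun h => ?_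
        refine not_le_of_gt (l.strictMono hij) (fun c hc => ?_)
        obtain ⟨c, rfl⟩ := Ideal.Quotient.mk_surjective c
        exact (Ideal.mem_quotient_iff_mem (hle i)).mp (h (Ideal.mem_map_of_mem _ (Ideal.mem_comap.2 hc)))
    rw [← hl]
    exact Order.LTSeries.length_le_krullDim l'

theorem exists_nat_dim {J : Ideal S} (hne : J ≠ ⊤) : ∃ d : ℕ, ringKrullDim (S ⧸ J) = d := by
  haveI : Nontrivial (S ⧸ J) := Ideal.Quotient.nontrivial_iff.2 hne
  have h1 : ringKrullDim (S ⧸ J) ≤ ringKrullDim S := ringKrullDim_quotient_le J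
  rw [MvPolynomial.ringKrullDim_of_isNoetherianRing, ringKrullDim_eq_zero_of_field] at h1
  have hb := (Module.supportDim_ne_bot_iff_nontrivial S (S ⧸ J)).2 inferInstance
  rw [Module.supportDim_quotient_eq_ringKrullDim] at hb
  obtain ⟨e, he⟩ := WithBot.ne_bot_iff_exists.mp hb
  rw [← he] at h1 ⊢
  obtain ⟨d, rfl⟩ := ENat.ne_top_iff_exists.1 (ne_top_of_le_ne_top (b := ((n + 1 : ℕ) : ℕ∞)) (ENat.coe_ne_top _)
    (WithBot.coe_le_coe.1 (h1.trans_eq (by simp))))
  exact ⟨d, rfl⟩

theorem isHP_eq_zero_of_top {P : ℚ[X]} (hP : IsHP (⊤ : Ideal S) P) : P = 0 := by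
  refine eq_of_eventually_eq (hP.mono fun t ht => ?_)
  rw [ht, eval_zero, hf_cast, Submodule.restrictScalars_top, top_inf_eq, sub_self]

/-- The dimension theorem for homogeneous ideals. -/
theorem dim_eq {J : Ideal S} (hJ : J.IsHomogeneous (CohB1.polyGrading n k)) {P : ℚ[X]} (hP : IsHP J P)
    (hP0 : P ≠ 0) : ringKrullDim (S ⧸ J) = (P.natDegree : WithBot ℕ∞) + 1 := by
  have hne : J ≠ ⊤ := fun h => hP0 (isHP_eq_zero_of_top (h ▸ hP))
  obtain ⟨d, hd⟩ := exists_nat_dim hne
  obtain ⟨D, rfl⟩ : ∃ D, d = D + 1 := by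
    refine ⟨d - 1, ?_⟩
    by_contra h
    obtain rfl : d = 0 := by omega
    exact hP0 (eq_zero_of_dim_le_zero hJ hd.le hP)
  obtain ⟨p, hp, hpd⟩ := exists_minimal_dim hd
  haveI := hp.1.1
  have hph := ProjDim.isHomogeneous_minimalPrimes hJ hp
  obtain ⟨Q, hQ⟩ := exists_isHP p hph
  have h1 := (natDegree_prime D p hph hpd Q hQ).2
  have h2 : Q.natDegree ≤ P.natDegree := by
    refine HilbSam.natDegree_le_of_le (hQ.and hP |>.mono fun t ht => ?_)
    rw [ht.1, ht.2]
    exact ⟨Nat.cast_nonneg _, Nat.cast_le.2 (hf_anti hp.1.2 t)⟩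
  have h3 := (le_of_dim_le hJ hd.le hP).1
  rw [hd, show P.natDegree = D by omega]
  push_cast
  rfl

/-- Degree and leading coefficient of a hypersurface section. -/
theorem section_degree {p : Ideal S} [p.IsPrime] (hp : p.IsHomogeneous (CohB1.polyGrading n k)) {f : S} {d : ℕ}
    (hd0 : 0 < d) (hf' : f.IsHomogeneous d) (hfp : f ∉ p) {P Q : ℚ[X]} (hP : IsHP p P)
    (hQ : IsHP (p ⊔ Ideal.span {f}) Q) (hdim : 1 ≤ P.natDegree) :
    Q.natDegree + 1 = P.natDegree ∧
      (Q.natDegree.factorial : ℚ) * Q.leadingCoeff = d * ((P.natDegree.factorial : ℚ) * P.leadingCoeff) := by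
  obtain rfl := hQ.unique (isHP_sup_span hp hf' hfp hP)
  obtain ⟨D, hD⟩ : ∃ D, P.natDegree = D + 1 := ⟨P.natDegree - 1, by omega⟩
  obtain ⟨h1, h2⟩ := shift_sub P (-(d : ℚ)) hD.le
  rw [← neg_sub (P.comp _) P, natDegree_neg, leadingCoeff_neg]
  have hl : P.leadingCoeff ≠ 0 := leadingCoeff_ne_zero.2 fun h => by rw [h, natDegree_zero] at hD; omega
  have hne : (P.comp (X + C (-(d : ℚ))) - P).coeff D ≠ 0 := by
    rw [h2, ← hD]
    exact mul_ne_zero (mul_ne_zero (neg_ne_zero.2 (Nat.cast_ne_zero.2 hd0.ne')) (by positivity)) hl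
  have hdeg := le_antisymm h1 (le_natDegree_of_ne_zero hne)
  refine ⟨by rw [hdeg, hD], ?_⟩
  rw [Polynomial.leadingCoeff, hdeg, h2, Polynomial.leadingCoeff, hD, Nat.factorial_succ]
  push_cast
  ring

open scoped Classical in
/-- The associativity formula for the degree. -/
theorem degree_eq_sum {I : Ideal S} (hI : I.IsHomogeneous (CohB1.polyGrading n k)) {P : ℚ[X]} (hP : IsHP I P)
    (r : ℕ) (p : Fin r → Ideal S) [hp : ∀ i, (p i).IsPrime] (hpinj : Function.Injective p)
    (hpmin : ∀ q : Ideal S, q ∈ I.minimalPrimes ↔ ∃ i, q = p i)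
    (Qp : Fin r → ℚ[X]) (hQp : ∀ i, IsHP (p i) (Qp i)) :
    (P.natDegree.factorial : ℚ) * P.leadingCoeff =
      ∑ i : Fin r, if (Qp i).natDegree = P.natDegree then
        ((Qp i).natDegree.factorial : ℚ) * (Qp i).leadingCoeff *
          (Module.length (Localization.AtPrime (p i))
            (LocalizedModule (p i).primeCompl (S ⧸ I))).toNat
      else 0 := by
  have hmem : ∀ i, p i ∈ I.minimalPrimes := fun i => (hpmin _).2 ⟨i, rfl⟩
  have hph : ∀ i, (p i).IsHomogeneous (CohB1.polyGrading n k) := fun i =>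
    ProjDim.isHomogeneous_minimalPrimes hI (hmem i)
  by_cases hP0 : P = 0
  · subst hP0
    rw [leadingCoeff_zero, mul_zero]
    refine (Finset.sum_eq_zero fun i _ => ?_).symm
    have : Qp i = 0 := by
      refine eq_of_eventually_eq ((hQp i).and hP |>.mono fun t ht => ?_)
      rw [eval_zero] at ht ⊢
      rw [ht.1]
      exact le_antisymm ((Nat.cast_le.2 (hf_anti (hmem i).1.2 t)).trans ht.2.ge) (Nat.cast_nonneg _)
    simp [this]
  set D := P.natDegree
  have hdim : ringKrullDim (S ⧸ I) = (D + 1 : ℕ) := by rw [dim_eq hI hP hP0]; push_cast; rfl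
  have hs : Module.supportDim S (S ⧸ I) ≤ (D + 1 : ℕ) := by
    rw [Module.supportDim_quotient_eq_ringKrullDim]; exact hdim.le
  have hex : ∀ q : PrimeSpectrum S, ∃ e : ℝ, ringKrullDim (S ⧸ q.asIdeal) = (D + 1 : ℕ) →
      Tendsto (fun t : ℕ => (HilbSam.samuel m (S ⧸ q.asIdeal) t : ℝ) / (t : ℝ) ^ (D + 1)) atTop (nhds e) := by
    intro q
    by_cases h : ringKrullDim (S ⧸ q.asIdeal) = (D + 1 : ℕ)
    · obtain ⟨Q, hQd, hQ⟩ := HilbSam.exists_polynomial_le (isDefining (S ⧸ q.asIdeal))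
        (d := D + 1) (by rw [Module.supportDim_quotient_eq_ringKrullDim]; exact h.le)
      exact ⟨_, fun _ => HilbSam.tendsto_samuel_of_eval hQd hQ⟩
    · exact ⟨0, fun h' => absurd h' h⟩
  choose e he using hex
  obtain ⟨-, -, hlim⟩ := HilbSam.tendsto_samuel_assoc (I := m) isMaximal_of_le e he (S ⧸ I) hs
  have hI' := (le_of_dim_le hI hdim.le hP).2
  have key := tendsto_nhds_unique hI' hlim
  let pt : Fin r → PrimeSpectrum S := fun i => ⟨p i, hp i⟩
  have hsupp : (HilbSam.wgt (D + 1) e (S ⧸ I)).support ⊆ ↑(Finset.univ.image pt) := by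
    intro q hq
    rw [Function.mem_support] at hq
    unfold HilbSam.wgt at hq
    split_ifs at hq with hqd
    · have hle : I ≤ q.asIdeal := by
        have hq' : q ∈ Module.support S (S ⧸ I) := by
          by_contra hns
          haveI := Module.notMem_support_iff.mp hns
          exact hq (by rw [Module.length_eq_zero]; simp)
        rw [Module.support_eq_zeroLocus, Ideal.annihilator_quotient, PrimeSpectrum.mem_zeroLocus] at hq'
        exact hq'
      obtain ⟨q', hq', hqq'⟩ := Ideal.exists_minimalPrimes_le hle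
      haveI := hq'.1.1
      have heq : q' = q.asIdeal := by
        by_contra hne
        have h1 := ProjDim.dim_add_one_le_of_lt (lt_of_le_of_ne hqq' hne)
        have h2 : ringKrullDim (S ⧸ q') ≤ (D + 1 : ℕ) := by
          rw [← hdim]
          exact ringKrullDim_le_of_surjective _ (Ideal.Quotient.factor_surjective hq'.1.2)
        rw [hqd] at h1
        have h3 : (D + 1 : ℕ) + 1 ≤ D + 1 := by exact_mod_cast h1.trans h2
        omega
      obtain ⟨i, hi⟩ := (hpmin q').1 hq'
      exact Finset.mem_coe.2 (Finset.mem_image.2 ⟨i, Finset.mem_univ _, PrimeSpectrum.ext (hi.symm.trans heq)⟩)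
    · exact absurd rfl hq
  rw [finsum_eq_sum_of_support_subset _ hsupp,
    Finset.sum_image fun i _ j _ h => hpinj (congrArg PrimeSpectrum.asIdeal h)] at key
  have hD0 : ((D : ℝ) + 1) ≠ 0 := by positivity
  have hterm : ∀ i, HilbSam.wgt (D + 1) e (S ⧸ I) (pt i) =
      ((if (Qp i).natDegree = D then (Qp i).leadingCoeff *
          (Module.length (Localization.AtPrime (p i))
            (LocalizedModule (p i).primeCompl (S ⧸ I))).toNat else 0 : ℚ) : ℝ) / ((D : ℝ) + 1) := by
    intro i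
    unfold HilbSam.wgt
    obtain ⟨di, hdi⟩ := ProjDim.exists_nat_dim_quotient (p i)
    have hdi_le : di ≤ D + 1 := by
      have : ringKrullDim (S ⧸ p i) ≤ (D + 1 : ℕ) := by
        rw [← hdim]
        exact ringKrullDim_le_of_surjective _ (Ideal.Quotient.factor_surjective (hmem i).1.2)
      rw [hdi] at this
      exact_mod_cast this
    by_cases hi : ringKrullDim (S ⧸ p i) = (D + 1 : ℕ)
    · obtain ⟨-, hdeg⟩ := natDegree_prime D (p i) (hph i) hi (Qp i) (hQp i)
      have hlim' := (le_of_dim_le (hph i) hi.le (hQp i)).2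
      rw [if_pos hdeg, if_pos (show ringKrullDim (S ⧸ (pt i).asIdeal) = (D + 1 : ℕ) from hi),
        tendsto_nhds_unique (he (pt i) hi) hlim', Polynomial.leadingCoeff, hdeg]
      push_cast
      ring
    · rw [if_neg (show ¬ ringKrullDim (S ⧸ (pt i).asIdeal) = (D + 1 : ℕ) from hi)]
      split_ifs with hdeg
      · by_cases hdi0 : di = 0
        · subst hdi0
          rw [eq_zero_of_dim_le_zero (hph i) hdi.le (hQp i)]
          simp
        · obtain ⟨e', rfl⟩ : ∃ e', di = e' + 1 := ⟨di - 1, by omega⟩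
          have := (natDegree_prime e' (p i) (hph i) hdi (Qp i) (hQp i)).2
          exact absurd (by rw [hdi, show e' = D by omega]) hi
      · simp
  simp only [hterm, ← Finset.sum_div] at key
  field_simp at key
  have key' : P.coeff D = ∑ i : Fin r, if (Qp i).natDegree = D then (Qp i).leadingCoeff *
          ((Module.length (Localization.AtPrime (p i))
            (LocalizedModule (p i).primeCompl (S ⧸ I))).toNat : ℚ) else 0 := by
    exact_mod_cast key
  rw [Polynomial.leadingCoeff, show P.natDegree = D from rfl, key', Finset.mul_sum]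
  refine Finset.sum_congr rfl fun i _ => ?_
  split_ifs with h
  · rw [h]; ring
  · ring

end GrothLib.GrHilb10
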